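import Mathlib
import Groth.Prelude.Def_EGA4Misc
import Groth.Agent.Lib.Helper7.ConsPair.Basic

set_option autoImplicit false
set_option linter.style.haveILetI false
set_option linter.unusedVariables false
set_option linter.unusedSectionVars false
set_option backward.isDefEq.respectTransparency.types false

open CategoryTheory CategoryTheory.Limits AlgebraicGeometry

universe u

/-! helper7: the morphism of fibres induced by a morphism of schemes over a base, its behaviour
under base change, and the locus of a field-stable relation on morphisms. -/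

namespace Groth.Agent.Helper7.ConsMor

open Groth.Agent.Helper7.LimStage Groth.Agent.Helper7.ConsPair

section FiberMap

variable {X Y S : Scheme.{u}} (f : X ⟶ Y) (g : Y ⟶ S) (s : S)

@[reassoc]
theorem fiberMap_fiberι :
    MoreMor.fiberMap f g s ≫ g.fiberι s = (f ≫ g).fiberι s ≫ f :=
  pullback.lift_fst _ _ _

@[reassoc]
theorem fiberMap_fiberToSpecResidueField :
    MoreMor.fiberMap f g s ≫ g.fiberToSpecResidueField s =
      (f ≫ g).fiberToSpecResidueField s :=
  pullback.lift_snd _ _ _

set_option backward.isDefEq.respectTransparency false in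
theorem fiberMap_eq_bcHom :
    MoreMor.fiberMap f g s = bcHom f g (S.fromSpecResidueField s) := by
  apply pullback.hom_ext
  · rw [bcHom_fst]
    exact fiberMap_fiberι f g s
  · rw [bcHom_snd]
    exact fiberMap_fiberToSpecResidueField f g s

theorem isPullback_fiberMap :
    IsPullback ((f ≫ g).fiberι s) (MoreMor.fiberMap f g s) f (g.fiberι s) := by
  rw [fiberMap_eq_bcHom]
  exact isPullback_bcHom f g (S.fromSpecResidueField s)

end FiberMap

set_option backward.isDefEq.respectTransparency false in
/-- the fibre maps of a base change are base changes of the fibre maps. -/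
theorem isPullback_fiberMap_of_isPullback {X Y S X' Y' S' : Scheme.{u}} {f : X ⟶ Y} {g : Y ⟶ S}
    {π : S' ⟶ S} {f' : X' ⟶ Y'} {g' : Y' ⟶ S'} {pX : X' ⟶ X} {pY : Y' ⟶ Y}
    (hY : IsPullback pY g' g π) (hX : IsPullback pX f' f pY) (s' : S') :
    IsPullback
      (pullback.map _ _ _ _ pX (Spec.map (π.residueFieldMap s')) π (hX.paste_vert hY).w.symm
        (by simp))
      (MoreMor.fiberMap f' g' s') (MoreMor.fiberMap f g (π s'))
      (pullback.map _ _ _ _ pY (Spec.map (π.residueFieldMap s')) π hY.w.symm (by simp)) := by
  refine IsPullback.of_bot ?_ ?_ (isPullback_fiberToSpecResidueField_of_isPullback hY s')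
  · rw [fiberMap_fiberToSpecResidueField, fiberMap_fiberToSpecResidueField]
    exact isPullback_fiberToSpecResidueField_of_isPullback (hX.paste_vert hY) s'
  · apply pullback.hom_ext
    · have e1 : MoreMor.fiberMap f g (π s') ≫ pullback.fst g (S.fromSpecResidueField (π s')) =
          pullback.fst (f ≫ g) (S.fromSpecResidueField (π s')) ≫ f := fiberMap_fiberι f g (π s')
      have e2 : MoreMor.fiberMap f' g' s' ≫ pullback.fst g' (S'.fromSpecResidueField s') =
          pullback.fst (f' ≫ g') (S'.fromSpecResidueField s') ≫ f' := fiberMap_fiberι f' g' s'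
      rw [Category.assoc, e1, pullback.lift_fst_assoc, Category.assoc, Category.assoc,
        pullback.lift_fst, reassoc_of% e2, hX.w]
    · have e1 : MoreMor.fiberMap f g (π s') ≫ pullback.snd g (S.fromSpecResidueField (π s')) =
          pullback.snd (f ≫ g) (S.fromSpecResidueField (π s')) :=
        fiberMap_fiberToSpecResidueField f g (π s')
      have e2 : MoreMor.fiberMap f' g' s' ≫ pullback.snd g' (S'.fromSpecResidueField s') =
          pullback.snd (f' ≫ g') (S'.fromSpecResidueField s') :=
        fiberMap_fiberToSpecResidueField f' g' s'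
      rw [Category.assoc, e1, pullback.lift_snd, Category.assoc, pullback.lift_snd,
        reassoc_of% e2]

set_option backward.isDefEq.respectTransparency false in
/-- the locus of a field-stable relation on morphisms commutes with base change. -/
theorem locusMor_eq_preimage {P : ∀ ⦃X Y T : Scheme.{u}⦄, (X ⟶ Y) → (Y ⟶ T) → Prop}
    (hP : ConsProp.IsFieldStableMor P) {X Y S X' Y' S' : Scheme.{u}} (f : X ⟶ Y) (g : Y ⟶ S)
    (π : S' ⟶ S) (f' : X' ⟶ Y') (g' : Y' ⟶ S') (pX : X' ⟶ X) (pY : Y' ⟶ Y)
    (hY : IsPullback pY g' g π) (hX : IsPullback pX f' f pY)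
    [LocallyOfFiniteType g] [QuasiCompact g] [LocallyOfFiniteType (f ≫ g)]
    [QuasiCompact (f ≫ g)] :
    ConsProp.locusMor P f' g' = π ⁻¹' ConsProp.locusMor P f g := by
  ext s'
  have h1 : LocallyOfFiniteType (MoreMor.fiberMap f g (π s') ≫
      g.fiberToSpecResidueField (π s')) := by
    rw [fiberMap_fiberToSpecResidueField]; infer_instance
  have h2 : QuasiCompact (MoreMor.fiberMap f g (π s') ≫
      g.fiberToSpecResidueField (π s')) := by
    rw [fiberMap_fiberToSpecResidueField]; infer_instance
  exact (hP (MoreMor.fiberMap f g (π s')) (g.fiberToSpecResidueField (π s'))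
    (MoreMor.fiberMap f' g' s') (g'.fiberToSpecResidueField s') _ _
    (Spec.map (π.residueFieldMap s'))
    (isPullback_fiberToSpecResidueField_of_isPullback hY s')
    (isPullback_fiberMap_of_isPullback hY hX s')).symm

end Groth.Agent.Helper7.ConsMor
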