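import Mathlib
import Groth.Agent.Lib.Helper7.ConsMor.Basic
import Groth.Agent.Lib.Helper7.ConsPair.Generic

set_option autoImplicit false
set_option linter.style.haveILetI false
set_option linter.unusedVariables false
set_option linter.unusedSectionVars false
set_option backward.isDefEq.respectTransparency.types false

open CategoryTheory CategoryTheory.Limits AlgebraicGeometry Opposite Topology

universe u

/-! helper7: spreading out a property of the morphism of generic fibres (for properties stable
under base change and descending to finite stages) over an affine Noetherian integral base. -/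

namespace Groth.Agent.Helper7.ConsMor

open Groth.Agent.Helper7.LimStage Groth.Agent.Helper7.ConsPair Groth.Agent.Helper7

/-- the relation on morphisms over a field: the morphism has property `Q`. -/
def MorProp (Q : MorphismProperty Scheme.{u}) :
    ∀ ⦃X Y T : Scheme.{u}⦄, (X ⟶ Y) → (Y ⟶ T) → Prop :=
  fun _ _ _ f _ => Q f

/-- if `f` has `Q` then so do all its fibre maps. -/
theorem mem_locusMor_of_prop (Q : MorphismProperty Scheme.{u}) [Q.IsStableUnderBaseChange]
    {X Y S : Scheme.{u}} (f : X ⟶ Y) (g : Y ⟶ S) (hQ : Q f) (s : S) :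
    s ∈ ConsProp.locusMor (MorProp Q) f g :=
  MorphismProperty.of_isPullback (isPullback_fiberMap f g s) hQ

set_option backward.isDefEq.respectTransparency false in
/-- spreading out a property of the generic fibre map over an affine Noetherian integral base. -/
theorem interior_locusMor_nonempty_affine (Q : MorphismProperty Scheme.{u})
    [Q.IsStableUnderBaseChange] (hQ : HasStage Q)
    (hfs : ConsProp.IsFieldStableMor (MorProp Q)) (R : Type u) [CommRing R] [IsDomain R]
    [IsNoetherianRing R] {X Y : Scheme.{u}} (f : X ⟶ Y) (g : Y ⟶ Spec (CommRingCat.of R))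
    [LocallyOfFiniteType g] [QuasiCompact g] [LocallyOfFiniteType (f ≫ g)]
    [QuasiCompact (f ≫ g)]
    (hη : genericPoint ↥(Spec (CommRingCat.of R)) ∈ ConsProp.locusMor (MorProp Q) f g) :
    (interior (ConsProp.locusMor (MorProp Q) f g)).Nonempty := by
  have hη' : Q (MoreMor.fiberMap f g (genericPoint ↥(Spec (CommRingCat.of R)))) := hη
  -- finiteness properties of `f`
  have : IsLocallyNoetherian Y := LocallyOfFiniteType.isLocallyNoetherian g
  have : IsLocallyNoetherian X := LocallyOfFiniteType.isLocallyNoetherian (f ≫ g)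
  have hf1 : LocallyOfFinitePresentation f :=
    Groth.Agent.Helper2.locallyOfFinitePresentation_of_comp f g inferInstance inferInstance
  have hf2 : QuasiCompact f := QuasiCompact.of_comp f g
  have hf3 : QuasiSeparated f := inferInstance
  -- the residue field of the generic point as an algebra
  obtain ⟨φ, hφ⟩ := Spec.map_surjective ((Spec (CommRingCat.of R)).fromSpecResidueField
    (genericPoint ↥(Spec (CommRingCat.of R))))
  let K : Type u := ↑((Spec (CommRingCat.of R)).residueField
    (genericPoint ↥(Spec (CommRingCat.of R))))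
  letI : Algebra R K := φ.hom.toAlgebra
  let i₀ : (RelFGSub.Idx R K)ᵒᵖ := op ⟨⊥, Subalgebra.fg_bot⟩
  have hπ : (RelFGSub.specCone R K).π.app i₀ ≫ RelFGSub.toBase R K i₀ =
      (Spec (CommRingCat.of R)).fromSpecResidueField
        (genericPoint ↥(Spec (CommRingCat.of R))) := by
    rw [← hφ]
    exact RelFGSub.π_toBase R K i₀
  obtain ⟨qY, hqY, hY₀⟩ := exists_isPullback_of_fac
    (IsPullback.of_hasPullback g (RelFGSub.toBase R K i₀)) ((RelFGSub.specCone R K).π.app i₀)
    _ hπ (IsPullback.of_hasPullback g ((Spec (CommRingCat.of R)).fromSpecResidueField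
        (genericPoint ↥(Spec (CommRingCat.of R)))))
  obtain ⟨qX, hqX, hX₀⟩ := exists_isPullback_of_fac
    (IsPullback.of_hasPullback f (pullback.fst g (RelFGSub.toBase R K i₀))) qY _ hqY
    (isPullback_fiberMap f g (genericPoint ↥(Spec (CommRingCat.of R))))
  have hcs : ∀ j : (RelFGSub.Idx R K)ᵒᵖ, CompactSpace ↥((RelFGSub.specDiag R K).obj j) := by
    intro j
    show CompactSpace ↥(Spec _)
    infer_instance
  have := hcs i₀
  have : CompactSpace ↥(pullback g (RelFGSub.toBase R K i₀)) :=
    QuasiCompact.compactSpace_of_compactSpace (pullback.snd g (RelFGSub.toBase R K i₀))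
  have hbc : Q (bcHom (pullback.snd f (pullback.fst g (RelFGSub.toBase R K i₀)))
      (pullback.snd g (RelFGSub.toBase R K i₀)) ((RelFGSub.specCone R K).π.app i₀)) :=
    bcHom_of_isPullback _ _ Q _ hY₀ hX₀ hη'
  obtain ⟨j, ψ, hj⟩ := hQ (RelFGSub.specDiag R K) (RelFGSub.specCone R K)
    (RelFGSub.isLimit_specCone R K).some _ _ hbc
  -- the base change of `(f, g)` along `Spec C ⟶ Spec R`
  have hYj : IsPullback (pullback.fst (pullback.snd g (RelFGSub.toBase R K i₀))
      ((RelFGSub.specDiag R K).map ψ) ≫ pullback.fst g (RelFGSub.toBase R K i₀))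
      (pullback.snd (pullback.snd g (RelFGSub.toBase R K i₀)) ((RelFGSub.specDiag R K).map ψ))
      g (RelFGSub.toBase R K j) := by
    have h1 := (IsPullback.of_hasPullback (pullback.snd g (RelFGSub.toBase R K i₀))
      ((RelFGSub.specDiag R K).map ψ)).paste_horiz
      (IsPullback.of_hasPullback g (RelFGSub.toBase R K i₀))
    rwa [RelFGSub.map_toBase] at h1
  have hXj := (isPullback_bcHom (pullback.snd f (pullback.fst g (RelFGSub.toBase R K i₀)))
    (pullback.snd g (RelFGSub.toBase R K i₀)) ((RelFGSub.specDiag R K).map ψ)).paste_horiz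
    (IsPullback.of_hasPullback f (pullback.fst g (RelFGSub.toBase R K i₀)))
  have hloc := locusMor_eq_preimage hfs f g (RelFGSub.toBase R K j) _ _ _ _ hYj hXj
  have hqc : QuasiCompact (RelFGSub.toBase R K j) := by
    show QuasiCompact (Spec.map _)
    infer_instance
  have hsub : Set.range (RelFGSub.toBase R K j) ⊆ ConsProp.locusMor (MorProp Q) f g := by
    rintro _ ⟨s', rfl⟩
    have h1 := mem_locusMor_of_prop Q _
      (pullback.snd (pullback.snd g (RelFGSub.toBase R K i₀)) ((RelFGSub.specDiag R K).map ψ))
      hj s'
    rw [hloc] at h1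
    exact h1
  have hmem : genericPoint ↥(Spec (CommRingCat.of R)) ∈ Set.range (RelFGSub.toBase R K j) := by
    obtain ⟨x⟩ : Nonempty ↥(Spec ((Spec (CommRingCat.of R)).residueField
      (genericPoint ↥(Spec (CommRingCat.of R))))) := inferInstance
    refine ⟨(RelFGSub.specCone R K).π.app j x, ?_⟩
    have h2 : (RelFGSub.specCone R K).π.app j ≫ RelFGSub.toBase R K j =
        (Spec (CommRingCat.of R)).fromSpecResidueField
          (genericPoint ↥(Spec (CommRingCat.of R))) := by
      rw [← hφ]
      exact RelFGSub.π_toBase R K j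
    have h3 : ((Spec (CommRingCat.of R)).fromSpecResidueField
        (genericPoint ↥(Spec (CommRingCat.of R)))) x = genericPoint ↥(Spec (CommRingCat.of R)) :=
      Scheme.fromSpecResidueField_apply _ x
    rw [← Scheme.Hom.comp_apply, h2]
    exact h3
  have hcons : IsConstructible (Set.range (RelFGSub.toBase R K j)) := by
    rw [← Set.image_univ]
    exact (RelFGSub.toBase R K j).isConstructible_image IsConstructible.univ
  have hd : Dense (Set.range (RelFGSub.toBase R K j)) := by
    have h1 : Dense ({genericPoint ↥(Spec (CommRingCat.of R))} :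
        Set ↥(Spec (CommRingCat.of R))) := by
      rw [dense_iff_closure_eq]
      exact (genericPoint_spec ↥(Spec (CommRingCat.of R))).def
    exact h1.mono (Set.singleton_subset_iff.mpr hmem)
  obtain ⟨U, hUo, ⟨x, hx⟩, hUsub⟩ :=
    (Groth.Agent.Helper1.ConstrL.dense_iff_exists_open_of_isConstructible hcons).mp hd
  exact ⟨x, mem_interior.mpr ⟨U, hUsub.trans hsub, hUo, hx⟩⟩

end Groth.Agent.Helper7.ConsMor
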