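import Mathlib
import Groth.Agent.Lib.Helper7.ConsMor.Basic
import Groth.Agent.Lib.Helper7.LimHom
import Groth.Agent.Lib.Helper7.FGSub2

set_option autoImplicit false
set_option linter.style.haveILetI false
set_option linter.unusedVariables false
set_option linter.unusedSectionVars false
set_option backward.isDefEq.respectTransparency.types false

open CategoryTheory CategoryTheory.Limits AlgebraicGeometry Opposite

universe u

/-! helper7: descent of a morphism between schemes of finite presentation to a finite stage with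
cartesian squares, and Noetherian models of such morphisms over an affine base. -/

namespace Groth.Agent.Helper7.ConsMor

open Groth.Agent.Helper7.LimStage Groth.Agent.Helper7.ConsPair Groth.Agent.Helper7.LimDesc
  Groth.Agent.Helper7

section Lim

variable {I : Type u} [Category.{u} I] [IsCofiltered I] (D : I ⥤ Scheme.{u}) (c : Cone D)
  (hc : IsLimit c) [∀ {i j : I} (f : i ⟶ j), IsAffineHom (D.map f)]

set_option backward.isDefEq.respectTransparency false in
include hc in
/-- a morphism between the base changes to the limit of two schemes over a stage descends to a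
finite stage, with cartesian squares. -/
theorem exists_hom_model (i₀ : I) {X₀ Y₀ : Scheme.{u}} (u₀ : X₀ ⟶ D.obj i₀) (v₀ : Y₀ ⟶ D.obj i₀)
    [CompactSpace X₀] [QuasiSeparatedSpace X₀] [LocallyOfFinitePresentation v₀]
    {X Y : Scheme.{u}} {qX : X ⟶ X₀} {pX : X ⟶ c.pt} (hX : IsPullback qX pX u₀ (c.π.app i₀))
    {qY : Y ⟶ Y₀} {pY : Y ⟶ c.pt} (hY : IsPullback qY pY v₀ (c.π.app i₀))
    (g : X ⟶ Y) (hg : g ≫ pY = pX) :
    ∃ (j : I) (φ : j ⟶ i₀) (fj : pullback u₀ (D.map φ) ⟶ pullback v₀ (D.map φ))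
      (sX : X ⟶ pullback u₀ (D.map φ)) (sY : Y ⟶ pullback v₀ (D.map φ)),
      fj ≫ pullback.snd v₀ (D.map φ) = pullback.snd u₀ (D.map φ) ∧
      IsPullback sY pY (pullback.snd v₀ (D.map φ)) (c.π.app j) ∧ IsPullback sX g fj sY := by
  obtain ⟨j, φ, fj, sX, sY, h1, h2, h3, h4, h5, h6⟩ :=
    Groth.Agent.Helper7.LimHom.exists_hom_descend D c hc i₀ u₀ v₀ hX hY g hg
  have hY' : IsPullback sY pY (pullback.snd v₀ (D.map φ)) (c.π.app j) := by
    refine IsPullback.of_right ?_ h5 (IsPullback.of_hasPullback v₀ (D.map φ))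
    rw [h4, c.w φ]
    exact hY
  have hX₁ : IsPullback sX pX (pullback.snd u₀ (D.map φ)) (c.π.app j) := by
    refine IsPullback.of_right ?_ h3 (IsPullback.of_hasPullback u₀ (D.map φ))
    rw [h2, c.w φ]
    exact hX
  have hX' : IsPullback sX g fj sY := by
    refine IsPullback.of_bot ?_ h6 hY'
    rw [hg, h1]
    exact hX₁
  exact ⟨j, φ, fj, sX, sY, h1, hY', hX'⟩

end Lim

set_option backward.isDefEq.respectTransparency false in
/-- a morphism between schemes of finite presentation over an affine scheme comes by base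
change from such a morphism over the spectrum of a Noetherian ring. -/
theorem exists_noetherian_model_mor (A : Type u) [CommRing A] {X Y : Scheme.{u}}
    (f : X ⟶ Y) (g : Y ⟶ Spec (CommRingCat.of A))
    [LocallyOfFinitePresentation g] [QuasiCompact g] [QuasiSeparated g]
    [LocallyOfFinitePresentation (f ≫ g)] [QuasiCompact (f ≫ g)] [QuasiSeparated (f ≫ g)] :
    ∃ (A₀ : Type u) (_ : CommRing A₀) (_ : IsNoetherianRing A₀)
      (π : Spec (CommRingCat.of A) ⟶ Spec (CommRingCat.of A₀)) (X₀ Y₀ : Scheme.{u})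
      (f₀ : X₀ ⟶ Y₀) (g₀ : Y₀ ⟶ Spec (CommRingCat.of A₀))
      (qX : X ⟶ X₀) (qY : Y ⟶ Y₀), LocallyOfFiniteType g₀ ∧ QuasiCompact g₀ ∧
        LocallyOfFiniteType (f₀ ≫ g₀) ∧ QuasiCompact (f₀ ≫ g₀) ∧
        IsPullback qY g g₀ π ∧ IsPullback qX f f₀ qY := by
  obtain ⟨j₁, ⟨M₁⟩⟩ := desc_of_finitePresentation (FGSub.isLimit_specCone A).some (f ≫ g)
  obtain ⟨j₂, ⟨M₂⟩⟩ := desc_of_finitePresentation (FGSub.isLimit_specCone A).some g
  obtain ⟨j, φ₁, φ₂, -⟩ := IsCofilteredOrEmpty.cone_objs j₁ j₂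
  have : CompactSpace ↥(M₁.stage φ₁).Zj :=
    QuasiCompact.compactSpace_of_compactSpace (M₁.stage φ₁).zj
  have : QuasiSeparatedSpace ↥(M₁.stage φ₁).Zj :=
    quasiSeparatedSpace_of_quasiSeparated (M₁.stage φ₁).zj
  obtain ⟨j', φ, fj, sX, sY, h1, hY', hX'⟩ := exists_hom_model (FGSub.specDiag A)
    (FGSub.specCone A) (FGSub.isLimit_specCone A).some j (M₁.stage φ₁).zj (M₂.stage φ₂).zj
    (M₁.stage φ₁).isPullback (M₂.stage φ₂).isPullback f rfl
  have hN : IsNoetherianRing ↥j'.unop.1 := by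
    have : Algebra.FiniteType ℤ ↥j'.unop.1 := (Subalgebra.fg_iff_finiteType _).mp j'.unop.2
    exact Algebra.FiniteType.isNoetherianRing ℤ _
  refine ⟨↥j'.unop.1, inferInstance, hN, (FGSub.specCone A).π.app j', _, _, fj,
    pullback.snd (M₂.stage φ₂).zj ((FGSub.specDiag A).map φ), sX, sY, inferInstance,
    inferInstance, ?_, ?_, hY', hX'⟩
  · rw [h1]; infer_instance
  · rw [h1]; infer_instance

end Groth.Agent.Helper7.ConsMor
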