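import Mathlib
import Groth.Agent.Lib.Helper7.ConsMor.Model
import Groth.Agent.Lib.Helper7.ConsPair.Top
import Groth.Agent.Lib.Helper7.ConsPair.LimLocus

set_option autoImplicit false
set_option linter.style.haveILetI false
set_option linter.unusedVariables false
set_option linter.unusedSectionVars false
set_option backward.isDefEq.respectTransparency.types false

open CategoryTheory CategoryTheory.Limits AlgebraicGeometry Opposite Topology TopologicalSpace

universe u

/-! helper7: the locus of a constructible (ind-constructible) relation on morphisms in a family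
of finite presentation is locally constructible (ind-constructible); the limit statement. -/

namespace Groth.Agent.Helper7.ConsMor

open Groth.Agent.Helper7.ProConsLib Groth.Agent.Helper7.ConsPair Groth.Agent.Helper7

variable {P : ∀ ⦃X Y T : Scheme.{u}⦄, (X ⟶ Y) → (Y ⟶ T) → Prop}

/-- instances for the canonical base change of a pair of composable morphisms. -/
theorem lft_comp_of_isPullback {X Y S X' Y' S' : Scheme.{u}} {f : X ⟶ Y} {g : Y ⟶ S}
    {π : S' ⟶ S} {f' : X' ⟶ Y'} {g' : Y' ⟶ S'} {pX : X' ⟶ X} {pY : Y' ⟶ Y}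
    (hY : IsPullback pY g' g π) (hX : IsPullback pX f' f pY)
    [LocallyOfFiniteType g] [QuasiCompact g] [LocallyOfFiniteType (f ≫ g)]
    [QuasiCompact (f ≫ g)] :
    LocallyOfFiniteType g' ∧ QuasiCompact g' ∧ LocallyOfFiniteType (f' ≫ g') ∧
      QuasiCompact (f' ≫ g') :=
  ⟨MorphismProperty.of_isPullback hY inferInstance, MorphismProperty.of_isPullback hY inferInstance,
    MorphismProperty.of_isPullback (hX.paste_vert hY) inferInstance,
    MorphismProperty.of_isPullback (hX.paste_vert hY) inferInstance⟩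

set_option backward.isDefEq.respectTransparency false in
/-- the locus of an ind-constructible relation on morphisms over a Noetherian affine base. -/
theorem isIndConstructible_locusMor_noeth (hP : ConsProp.IsIndConsMor P) (A : Type u)
    [CommRing A] [IsNoetherianRing A] {X Y : Scheme.{u}} (f : X ⟶ Y)
    (g : Y ⟶ Spec (CommRingCat.of A)) [LocallyOfFiniteType g] [QuasiCompact g]
    [LocallyOfFiniteType (f ≫ g)] [QuasiCompact (f ≫ g)] :
    ProCons.IsIndConstructible (ConsProp.locusMor P f g) := by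
  apply isIndConstructible_of_forall_prime
  intro x hx
  have hY := IsPullback.of_hasPullback g (primeIncl A x)
  have hX := IsPullback.of_hasPullback f (pullback.fst g (primeIncl A x))
  obtain ⟨i1, i2, i3, i4⟩ := lft_comp_of_isPullback hY hX
  have hloc := locusMor_eq_preimage hP.1 f g (primeIncl A x) _ _ _ _ hY hX
  rw [← hloc]
  apply hP.2
  rw [hloc, Set.mem_preimage, primeIncl_genericPoint]
  exact hx

set_option backward.isDefEq.respectTransparency false in
/-- the locus of a constructible relation on morphisms over a Noetherian affine base. -/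
theorem isConstructible_locusMor_noeth (hP : ConsProp.IsConsMor P) (A : Type u)
    [CommRing A] [IsNoetherianRing A] {X Y : Scheme.{u}} (f : X ⟶ Y)
    (g : Y ⟶ Spec (CommRingCat.of A)) [LocallyOfFiniteType g] [QuasiCompact g]
    [LocallyOfFiniteType (f ≫ g)] [QuasiCompact (f ≫ g)] :
    IsConstructible (ConsProp.locusMor P f g) := by
  apply isConstructible_of_forall_prime
  intro x
  have hY := IsPullback.of_hasPullback g (primeIncl A x)
  have hX := IsPullback.of_hasPullback f (pullback.fst g (primeIncl A x))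
  obtain ⟨i1, i2, i3, i4⟩ := lft_comp_of_isPullback hY hX
  have hloc := locusMor_eq_preimage hP.1 f g (primeIncl A x) _ _ _ _ hY hX
  rw [← hloc]
  exact hP.2 _ _

/-- finite presentation instances for the canonical base change. -/
theorem fp_comp_of_isPullback {X Y S X' Y' S' : Scheme.{u}} {f : X ⟶ Y} {g : Y ⟶ S}
    {π : S' ⟶ S} {f' : X' ⟶ Y'} {g' : Y' ⟶ S'} {pX : X' ⟶ X} {pY : Y' ⟶ Y}
    (hY : IsPullback pY g' g π) (hX : IsPullback pX f' f pY)
    [LocallyOfFinitePresentation g] [QuasiCompact g] [QuasiSeparated g]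
    [LocallyOfFinitePresentation (f ≫ g)] [QuasiCompact (f ≫ g)] [QuasiSeparated (f ≫ g)] :
    LocallyOfFinitePresentation g' ∧ QuasiCompact g' ∧ QuasiSeparated g' ∧
      LocallyOfFinitePresentation (f' ≫ g') ∧ QuasiCompact (f' ≫ g') ∧
        QuasiSeparated (f' ≫ g') :=
  ⟨MorphismProperty.of_isPullback hY inferInstance, MorphismProperty.of_isPullback hY inferInstance,
    MorphismProperty.of_isPullback hY inferInstance,
    MorphismProperty.of_isPullback (hX.paste_vert hY) inferInstance,
    MorphismProperty.of_isPullback (hX.paste_vert hY) inferInstance,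
    MorphismProperty.of_isPullback (hX.paste_vert hY) inferInstance⟩

/-- **ind-constructible case** for relations on morphisms. -/
theorem isIndConstructible_locusMor (hP : ConsProp.IsIndConsMor P) {X Y S : Scheme.{u}}
    (f : X ⟶ Y) (g : Y ⟶ S)
    [LocallyOfFinitePresentation g] [QuasiCompact g] [QuasiSeparated g]
    [LocallyOfFinitePresentation (f ≫ g)] [QuasiCompact (f ≫ g)] [QuasiSeparated (f ≫ g)] :
    ProCons.IsIndConstructible (ConsProp.locusMor P f g) := by
  apply isIndConstructible_of_forall_affineOpen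
  intro V hV
  have hY := IsPullback.of_hasPullback g hV.fromSpec
  have hX := IsPullback.of_hasPullback f (pullback.fst g hV.fromSpec)
  obtain ⟨i1, i2, i3, i4, i5, i6⟩ := fp_comp_of_isPullback hY hX
  rw [← locusMor_eq_preimage hP.1 f g hV.fromSpec _ _ _ _ hY hX]
  obtain ⟨A₀, _, _, π, X₀, Y₀, f₀, g₀, qX, qY, _, _, _, _, hY₀, hX₀⟩ :=
    exists_noetherian_model_mor ↑Γ(S, V) (pullback.snd f (pullback.fst g hV.fromSpec))
      (pullback.snd g hV.fromSpec)
  rw [locusMor_eq_preimage hP.1 f₀ g₀ π _ _ qX qY hY₀ hX₀]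
  exact isIndConstructible_preimage π (isIndConstructible_locusMor_noeth hP A₀ f₀ g₀)

/-- **constructible case** for relations on morphisms. -/
theorem isLocallyConstructible_locusMor (hP : ConsProp.IsConsMor P) {X Y S : Scheme.{u}}
    (f : X ⟶ Y) (g : Y ⟶ S)
    [LocallyOfFinitePresentation g] [QuasiCompact g] [QuasiSeparated g]
    [LocallyOfFinitePresentation (f ≫ g)] [QuasiCompact (f ≫ g)] [QuasiSeparated (f ≫ g)] :
    IsLocallyConstructible (ConsProp.locusMor P f g) := by
  apply isLocallyConstructible_of_forall_affineOpen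
  intro V hV
  have hY := IsPullback.of_hasPullback g hV.fromSpec
  have hX := IsPullback.of_hasPullback f (pullback.fst g hV.fromSpec)
  obtain ⟨i1, i2, i3, i4, i5, i6⟩ := fp_comp_of_isPullback hY hX
  rw [← locusMor_eq_preimage hP.1 f g hV.fromSpec _ _ _ _ hY hX]
  obtain ⟨A₀, _, _, π, X₀, Y₀, f₀, g₀, qX, qY, _, _, _, _, hY₀, hX₀⟩ :=
    exists_noetherian_model_mor ↑Γ(S, V) (pullback.snd f (pullback.fst g hV.fromSpec))
      (pullback.snd g hV.fromSpec)
  rw [locusMor_eq_preimage hP.1 f₀ g₀ π _ _ qX qY hY₀ hX₀]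
  exact isLocallyConstructible_preimage π
    (isConstructible_locusMor_noeth hP A₀ f₀ g₀).isLocallyConstructible

section Lim

variable {I : Type u} [Category.{u} I] [IsCofiltered I] (D : I ⥤ Scheme.{u}) (c : Cone D)
  (hc : IsLimit c) [∀ {i j : I} (f : i ⟶ j), IsAffineHom (D.map f)]

set_option backward.isDefEq.respectTransparency false in
include hc in
/-- the limit statement for ind-constructible relations on morphisms. -/
theorem forall_mem_locusMor_iff (hP : ConsProp.IsIndConsMor P) (i₀ : I)
    [CompactSpace ↥(D.obj i₀)] {X₀ Y₀ : Scheme.{u}} (f₀ : X₀ ⟶ Y₀) (g₀ : Y₀ ⟶ D.obj i₀)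
    [LocallyOfFinitePresentation g₀] [QuasiCompact g₀] [QuasiSeparated g₀]
    [LocallyOfFinitePresentation (f₀ ≫ g₀)] [QuasiCompact (f₀ ≫ g₀)] [QuasiSeparated (f₀ ≫ g₀)]
    {X Y : Scheme.{u}} (f : X ⟶ Y) (g : Y ⟶ c.pt) (qY : Y ⟶ Y₀) (qX : X ⟶ X₀)
    (hY : IsPullback qY g g₀ (c.π.app i₀)) (hX : IsPullback qX f f₀ qY) :
    (∀ s : ↥c.pt, s ∈ ConsProp.locusMor P f g) ↔
      ∃ (j : I) (φ : j ⟶ i₀) (Xj Yj : Scheme.{u}) (fj : Xj ⟶ Yj) (gj : Yj ⟶ D.obj j)
        (pY : Yj ⟶ Y₀) (pX : Xj ⟶ X₀), IsPullback pY gj g₀ (D.map φ) ∧ IsPullback pX fj f₀ pY ∧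
          ∀ t : ↥(D.obj j), t ∈ ConsProp.locusMor P fj gj := by
  constructor
  · intro hall
    have hloc := locusMor_eq_preimage hP.1 f₀ g₀ (c.π.app i₀) f g qX qY hY hX
    obtain ⟨j, φ, hj⟩ := exists_stage_preimage_eq_univ D c hc i₀
      (isIndConstructible_locusMor hP f₀ g₀) (fun s => by
        have := hall s
        rw [hloc] at this
        exact this)
    refine ⟨j, φ, pullback f₀ (pullback.fst g₀ (D.map φ)), pullback g₀ (D.map φ),
      pullback.snd _ _, pullback.snd _ _, pullback.fst _ _, pullback.fst _ _,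
      IsPullback.of_hasPullback _ _, IsPullback.of_hasPullback _ _, fun t => ?_⟩
    rw [locusMor_eq_preimage hP.1 f₀ g₀ (D.map φ) _ _ _ _ (IsPullback.of_hasPullback _ _)
      (IsPullback.of_hasPullback _ _)]
    exact hj t
  · rintro ⟨j, φ, Xj, Yj, fj, gj, pY, pX, hYj, hXj, hall⟩ s
    obtain ⟨i1, i2, i3, i4⟩ := lft_comp_of_isPullback hYj hXj
    obtain ⟨rY, hrY1, hrY⟩ := exists_isPullback_of_fac hYj (c.π.app j) (c.π.app i₀) (c.w φ) hY
    obtain ⟨rX, -, hrX⟩ := exists_isPullback_of_fac hXj rY qY hrY1 hX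
    rw [locusMor_eq_preimage hP.1 fj gj (c.π.app j) f g rX rY hrY hrX]
    exact hall _

end Lim

end Groth.Agent.Helper7.ConsMor
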