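import Mathlib
import Groth.Agent.Lib.Helper7.ConsMor.Generic
import Groth.Agent.Lib.Helper7.ConsMor.Locus
import Groth.Agent.Lib.Helper7.ConsPair.Props
import Groth.Agent.Lib.Helper7.AffDesc
import Groth.Agent.Lib.Helper7.QAffDesc2

set_option autoImplicit false
set_option linter.style.haveILetI false
set_option linter.unusedVariables false
set_option linter.unusedSectionVars false
set_option backward.isDefEq.respectTransparency.types false

open CategoryTheory CategoryTheory.Limits AlgebraicGeometry Opposite Topology

universe u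

/-! helper7: relations on morphisms of the form "the morphism has Q" are ind-constructible for Q
stable under base change, descending to finite stages and along field extensions; the cases of
affine and quasi-affine morphisms. -/

namespace Groth.Agent.Helper7.ConsMor

open Groth.Agent.Helper7.LimStage Groth.Agent.Helper7.ConsPair Groth.Agent.Helper7

set_option backward.isDefEq.respectTransparency false in
/-- the general theorem for relations on morphisms of the form "the morphism has `Q`". -/
theorem isIndConsMor_morProp (Q : MorphismProperty Scheme.{u}) [Q.IsStableUnderBaseChange]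
    (hQ : HasStage Q) (hfs : ConsProp.IsFieldStableMor (MorProp Q)) :
    ConsProp.IsIndConsMor (MorProp Q) := by
  refine ⟨hfs, ?_⟩
  intro X Y S f g _ _ _ _ _ _ hη
  obtain ⟨V, hV, hne⟩ : ∃ V : S.Opens, IsAffineOpen V ∧ Nonempty ↥V := by
    obtain ⟨x⟩ := (inferInstance : Nonempty S)
    obtain ⟨_, ⟨V, hV : IsAffineOpen V, rfl⟩, hxV, -⟩ :=
      S.isBasis_affineOpens.exists_subset_of_mem_open (a := x) (Set.mem_univ x) isOpen_univ
    exact ⟨V, hV, ⟨⟨x, hxV⟩⟩⟩
  have hY := IsPullback.of_hasPullback g hV.fromSpec
  have hX := IsPullback.of_hasPullback f (pullback.fst g hV.fromSpec)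
  obtain ⟨i1, i2, i3, i4⟩ := lft_comp_of_isPullback hY hX
  have hloc := locusMor_eq_preimage hfs f g hV.fromSpec _ _ _ _ hY hX
  have : IsDomain ↑Γ(S, V) := @IsIntegral.component_integral S _ V hne
  have : IsNoetherianRing ↑Γ(S, V) := IsLocallyNoetherian.component_noetherian ⟨V, hV⟩
  have hgen : hV.fromSpec (genericPoint ↥(Spec Γ(S, V))) = genericPoint ↥S :=
    genericPoint_eq_of_isOpenImmersion hV.fromSpec
  obtain ⟨x, hx⟩ := interior_locusMor_nonempty_affine Q hQ hfs ↑Γ(S, V)
    (pullback.snd f (pullback.fst g hV.fromSpec)) (pullback.snd g hV.fromSpec) (by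
      rw [hloc]
      refine Set.mem_preimage.mpr ?_
      have h2 : hV.fromSpec (genericPoint ↥(Spec (CommRingCat.of ↑Γ(S, V)))) =
          genericPoint ↥S := hgen
      rw [h2]
      exact hη)
  rw [hloc] at hx
  refine ⟨hV.fromSpec x, ?_⟩
  rw [← hV.fromSpec.isOpenEmbedding.isOpenMap.preimage_interior_eq_interior_preimage
    hV.fromSpec.continuous] at hx
  exact hx

/-- one-point integral schemes are locally Noetherian. -/
theorem isLocallyNoetherian_of_subsingleton (T : Scheme.{u}) [IsIntegral T] [Subsingleton T] :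
    IsLocallyNoetherian T := by
  letI := (isField_of_isIntegral_of_subsingleton T).toField
  have : IsNoetherianRing ↑Γ(T, ⊤) := inferInstance
  exact LocallyOfFiniteType.isLocallyNoetherian T.isoSpec.hom

/-- consequences of the standing hypotheses of field stability. -/
theorem field_setup {X X' Y Y' T T' : Scheme.{u}} (f : X ⟶ Y) (g : Y ⟶ T) (f' : X' ⟶ Y')
    (g' : Y' ⟶ T') (eX : X' ⟶ X) (eY : Y' ⟶ Y) (h : T' ⟶ T)
    [IsIntegral T] [Subsingleton T] [IsIntegral T'] [Subsingleton T']
    [LocallyOfFiniteType g] [QuasiCompact g] [LocallyOfFiniteType (f ≫ g)] [QuasiCompact (f ≫ g)]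
    (hY : IsPullback eY g' g h) :
    Flat eY ∧ Surjective eY ∧ QuasiCompact eY ∧ QuasiCompact f ∧ QuasiSeparated f := by
  have : IsLocallyNoetherian T := isLocallyNoetherian_of_subsingleton T
  have : IsLocallyNoetherian Y := LocallyOfFiniteType.isLocallyNoetherian g
  have : IsLocallyNoetherian X := LocallyOfFiniteType.isLocallyNoetherian (f ≫ g)
  have hs : Surjective h := ⟨fun t => ⟨Classical.arbitrary T', Subsingleton.elim _ _⟩⟩
  have hqc : QuasiCompact h := inferInstance
  exact ⟨MorphismProperty.of_isPullback hY.flip (inferInstance : Flat h),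
    MorphismProperty.of_isPullback hY.flip hs, MorphismProperty.of_isPullback hY.flip hqc,
    QuasiCompact.of_comp f g, inferInstance⟩

theorem isFieldStableMor_isAffineHom :
    ConsProp.IsFieldStableMor (MorProp (@IsAffineHom : MorphismProperty Scheme.{u})) := by
  intro X X' Y Y' T T' f g f' g' eX eY h _ _ _ _ _ _ _ _ hY hX
  constructor
  · intro hf
    exact MorphismProperty.of_isPullback (P := @IsAffineHom) hX hf
  · intro hf'
    obtain ⟨h1, h2, h3, h4, h5⟩ := field_setup f g f' g' eX eY h hY
    show IsAffineHom f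
    rw [AffDesc.main13711 f eY]
    refine ⟨h4, h5, ?_⟩
    rw [← hX.isoPullback_inv_snd]
    have : IsAffineHom f' := hf'
    infer_instance

theorem isFieldStableMor_qaff : ConsProp.IsFieldStableMor (MorProp qaff.{u}) := by
  intro X X' Y Y' T T' f g f' g' eX eY h _ _ _ _ _ _ _ _ hY hX
  constructor
  · intro hf
    exact MorphismProperty.of_isPullback (P := qaff) hX hf
  · intro hf'
    obtain ⟨h1, h2, h3, h4, h5⟩ := field_setup f g f' g' eX eY h hY
    exact (QAffDesc2.main1127.{u}).of_isPullback hX.flip ⟨⟨h2, h1⟩, h3⟩ hf'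

theorem isIndConsMor_isAffineHom :
    ConsProp.IsIndConsMor (MorProp (@IsAffineHom : MorphismProperty Scheme.{u})) :=
  isIndConsMor_morProp _ hasStage_isAffineHom isFieldStableMor_isAffineHom

theorem isIndConsMor_qaff : ConsProp.IsIndConsMor (MorProp qaff.{u}) :=
  isIndConsMor_morProp _ hasStage_qaff isFieldStableMor_qaff

end Groth.Agent.Helper7.ConsMor
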