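import Mathlib
import Groth.Agent.Lib.Helper7.ConsMor.Props
import Groth.Agent.Lib.Helper7.ConsPair.Locus
import Groth.Agent.Lib.Helper7.ProConsLib6

set_option autoImplicit false
set_option linter.style.haveILetI false
set_option linter.unusedVariables false
set_option linter.unusedSectionVars false
set_option backward.isDefEq.respectTransparency.types false

open CategoryTheory CategoryTheory.Limits AlgebraicGeometry Opposite Topology

universe u

/-! helper7: relations on one scheme as relations on pairs; the relation on morphisms "all fibres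
have P" is constructible (ind-constructible) when P is. -/

namespace Groth.Agent.Helper7.ConsMor

open Groth.Agent.Helper7.LimStage Groth.Agent.Helper7.ConsPair Groth.Agent.Helper7
  Groth.Agent.Helper7.ProConsLib

section Single

variable {P : ∀ ⦃Y T : Scheme.{u}⦄, (Y ⟶ T) → Prop}

/-- a relation on one scheme viewed as a relation on pairs ignoring the second scheme. -/
def pairOf (P : ∀ ⦃Y T : Scheme.{u}⦄, (Y ⟶ T) → Prop) :
    ∀ ⦃X Y T : Scheme.{u}⦄, (X ⟶ T) → (Y ⟶ T) → Prop :=
  fun _ _ _ gX _ => P gX

theorem isFieldStablePair_pairOf (hP : ConsProp.IsFieldStable P) :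
    ConsPropPair.IsFieldStablePair (pairOf P) := by
  intro X X' Y Y' T T' gX gY gX' gY' eX eY h _ _ _ _ _ _ _ _ hX hY
  exact hP gX gX' eX h hX

theorem isIndConsPair_pairOf (hP : ConsProp.IsIndCons P) :
    ConsPropPair.IsIndConsPair (pairOf P) :=
  ⟨isFieldStablePair_pairOf hP.1, fun X Y S u v _ _ _ _ _ _ hη => hP.2 u hη⟩

theorem isConsPair_pairOf (hP : ConsProp.IsCons P) :
    ConsPropPair.IsConsPair (pairOf P) :=
  ⟨isFieldStablePair_pairOf hP.1, fun X Y S u v _ _ _ _ _ _ => hP.2 u⟩

/-- the locus of an ind-constructible relation in a family of finite presentation. -/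
theorem isIndConstructible_locus (hP : ConsProp.IsIndCons P) {X S : Scheme.{u}} (u : X ⟶ S)
    [LocallyOfFinitePresentation u] [QuasiCompact u] [QuasiSeparated u] :
    ProCons.IsIndConstructible (ConsProp.locus P u) :=
  isIndConstructible_locusPair (isIndConsPair_pairOf hP) u (𝟙 S)

/-- the locus of a constructible relation in a family of finite presentation. -/
theorem isLocallyConstructible_locus (hP : ConsProp.IsCons P) {X S : Scheme.{u}} (u : X ⟶ S)
    [LocallyOfFinitePresentation u] [QuasiCompact u] [QuasiSeparated u] :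
    IsLocallyConstructible (ConsProp.locus P u) :=
  isLocallyConstructible_locusPair (isConsPair_pairOf hP) u (𝟙 S)

/-- the relation on morphisms: all fibres have `P`. -/
def fibProp (P : ∀ ⦃Y T : Scheme.{u}⦄, (Y ⟶ T) → Prop) :
    ∀ ⦃X Y T : Scheme.{u}⦄, (X ⟶ Y) → (Y ⟶ T) → Prop :=
  fun _ Y _ f _ => ∀ y : ↥Y, P (f.fiberToSpecResidueField y)

/-- the fibrewise relation at `y'` and at its image, for a cartesian square. -/
theorem fib_iff_of_isPullback (hP : ConsProp.IsFieldStable P) {X X' Y Y' : Scheme.{u}}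
    {f : X ⟶ Y} {f' : X' ⟶ Y'} {eX : X' ⟶ X} {eY : Y' ⟶ Y} (hX : IsPullback eX f' f eY)
    [LocallyOfFiniteType f] [QuasiCompact f] (y' : Y') :
    P (f.fiberToSpecResidueField (eY y')) ↔ P (f'.fiberToSpecResidueField y') :=
  hP (f.fiberToSpecResidueField (eY y')) (f'.fiberToSpecResidueField y') _
    (Spec.map (eY.residueFieldMap y')) (isPullback_fiberToSpecResidueField_of_isPullback hX y')

theorem isFieldStableMor_fibProp (hP : ConsProp.IsFieldStable P) :
    ConsProp.IsFieldStableMor (fibProp P) := by
  intro X X' Y Y' T T' f g f' g' eX eY h _ _ _ _ _ _ _ _ hY hX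
  obtain ⟨h1, h2, h3, h4, h5⟩ := field_setup f g f' g' eX eY h hY
  have : LocallyOfFiniteType f := locallyOfFiniteType_of_comp f g
  constructor
  · intro H y'
    exact (fib_iff_of_isPullback hP hX y').mp (H (eY y'))
  · intro H y
    obtain ⟨y', rfl⟩ := h2.surj y
    exact (fib_iff_of_isPullback hP hX y').mpr (H y')

/-- the locus of the fibrewise relation: the points over which the whole fibre lies in the
locus of `P` for `f`. -/
theorem locusMor_fibProp_eq (hP : ConsProp.IsFieldStable P) {X Y S : Scheme.{u}} (f : X ⟶ Y)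
    (g : Y ⟶ S) [LocallyOfFiniteType f] [QuasiCompact f] :
    ConsProp.locusMor (fibProp P) f g = (g '' (ConsProp.locus P f)ᶜ)ᶜ := by
  ext s
  have key : ∀ y₀ : ↥(g.fiber s), P ((MoreMor.fiberMap f g s).fiberToSpecResidueField y₀) ↔
      g.fiberι s y₀ ∈ ConsProp.locus P f :=
    fun y₀ => (fib_iff_of_isPullback hP (isPullback_fiberMap f g s) y₀).symm
  constructor
  · rintro H ⟨y, hy, rfl⟩
    have hmem : y ∈ Set.range (g.fiberι (g y)) := by
      rw [Scheme.Hom.range_fiberι]; rfl
    obtain ⟨y₀, hy₀⟩ := hmem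
    have h3 := (key y₀).mp (H y₀)
    rw [hy₀] at h3
    exact hy h3
  · intro H y₀
    rw [key]
    by_contra hn
    apply H
    refine ⟨g.fiberι s y₀, hn, ?_⟩
    have hmem : g.fiberι s y₀ ∈ Set.range (g.fiberι s) := ⟨y₀, rfl⟩
    rw [Scheme.Hom.range_fiberι] at hmem
    exact hmem

end Single

section Main

variable {P : ∀ ⦃Y T : Scheme.{u}⦄, (Y ⟶ T) → Prop}

/-- standing finiteness consequences over a Noetherian base. -/
theorem noeth_setup {X Y S : Scheme.{u}} (f : X ⟶ Y) (g : Y ⟶ S) [IsNoetherian S]
    [LocallyOfFiniteType g] [QuasiCompact g] [LocallyOfFiniteType (f ≫ g)]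
    [QuasiCompact (f ≫ g)] :
    LocallyOfFinitePresentation f ∧ QuasiCompact f ∧ QuasiSeparated f ∧
      LocallyOfFinitePresentation g := by
  have : IsLocallyNoetherian Y := LocallyOfFiniteType.isLocallyNoetherian g
  have : IsLocallyNoetherian X := LocallyOfFiniteType.isLocallyNoetherian (f ≫ g)
  have : LocallyOfFiniteType f := locallyOfFiniteType_of_comp f g
  exact ⟨inferInstance, QuasiCompact.of_comp f g, inferInstance, inferInstance⟩

theorem isIndConsMor_fibProp (hP : ConsProp.IsIndCons P) :
    ConsProp.IsIndConsMor (fibProp P) := by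
  refine ⟨isFieldStableMor_fibProp hP.1, ?_⟩
  intro X Y S f g _ _ _ _ _ _ hη
  obtain ⟨h1, h2, h3, h4⟩ := noeth_setup f g
  rw [locusMor_fibProp_eq hP.1 f g] at hη ⊢
  have hF : ProCons.IsProConstructible (g '' (ConsProp.locus P f)ᶜ) :=
    isProConstructible_image g (isProConstructible_compl (isIndConstructible_locus hP f))
  have hcl : genericPoint ↥S ∉ closure (g '' (ConsProp.locus P f)ᶜ) := by
    intro hmem
    obtain ⟨z, hz, hzs⟩ := exists_specializes_of_mem_closure_of_isProConstructible S hF hmem
    have : z = genericPoint ↥S := (hzs.antisymm (genericPoint_specializes z)).eq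
    exact hη (this ▸ hz)
  refine ⟨genericPoint ↥S, mem_interior.mpr ⟨(closure (g '' (ConsProp.locus P f)ᶜ))ᶜ, ?_,
    isClosed_closure.isOpen_compl, hcl⟩⟩
  exact Set.compl_subset_compl.mpr subset_closure

theorem isConsMor_fibProp (hP : ConsProp.IsCons P) :
    ConsProp.IsConsMor (fibProp P) := by
  refine ⟨isFieldStableMor_fibProp hP.1, ?_⟩
  intro X Y S f g _ _ _ _ _ _
  obtain ⟨h1, h2, h3, h4⟩ := noeth_setup f g
  rw [locusMor_fibProp_eq hP.1 f g]
  have hloc : IsLocallyConstructible (g '' (ConsProp.locus P f)ᶜ) :=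
    g.isLocallyConstructible_image (isLocallyConstructible_compl
      (isLocallyConstructible_locus hP f))
  have hcons : IsConstructible (g '' (ConsProp.locus P f)ᶜ) := hloc.isConstructible
  have hgen : ∀ E : Set ↥S, IsConstructible E → genericPoint ↥S ∈ E → (interior E).Nonempty := by
    intro E hE hmem
    have hd : Dense E := by
      have h1 : Dense ({genericPoint ↥S} : Set ↥S) := by
        rw [dense_iff_closure_eq]
        exact (genericPoint_spec ↥S).def
      exact h1.mono (Set.singleton_subset_iff.mpr hmem)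
    obtain ⟨U, hUo, ⟨x, hx⟩, hUsub⟩ :=
      (Groth.Agent.Helper1.ConstrL.dense_iff_exists_open_of_isConstructible hE).mp hd
    exact ⟨x, mem_interior.mpr ⟨U, hUsub, hUo, hx⟩⟩
  by_cases hη : genericPoint ↥S ∈ g '' (ConsProp.locus P f)ᶜ
  · right
    rw [compl_compl]
    exact hgen _ hcons hη
  · left
    exact hgen _ hcons.compl hη

end Main

end Groth.Agent.Helper7.ConsMor
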