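import Mathlib
import Groth.Agent.Lib.Helper7.ConsMor.Fib
import Groth.Agent.Lib.Helper7.FibSurj.Rad
import Groth.Agent.Lib.Helper7.FibSurj.QF
import Groth.Agent.Lib.Helper2.AlgSp.QFDescent

set_option autoImplicit false
set_option linter.style.haveILetI false
set_option linter.unusedVariables false
set_option linter.unusedSectionVars false
set_option backward.isDefEq.respectTransparency.types false

open CategoryTheory CategoryTheory.Limits AlgebraicGeometry Opposite Topology

universe u

/-! helper7: constructible relations on morphisms from locally constructible loci: radicial and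
quasi-finite morphisms; radicial schemes over a field. -/

namespace Groth.Agent.Helper7.ConsMor

open Groth.Agent.Helper7.LimStage Groth.Agent.Helper7.ConsPair Groth.Agent.Helper7
  Groth.Agent.Helper7.ProConsLib

/-- field stability from stability under base change and fpqc descent. -/
theorem isFieldStableMor_of_descendsAlong (Q : MorphismProperty Scheme.{u})
    [Q.IsStableUnderBaseChange]
    (hQ : Q.DescendsAlong (@Surjective ⊓ @Flat ⊓ @QuasiCompact : MorphismProperty Scheme.{u})) :
    ConsProp.IsFieldStableMor (MorProp Q) := by
  intro X X' Y Y' T T' f g f' g' eX eY h _ _ _ _ _ _ _ _ hY hX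
  constructor
  · intro hf
    exact MorphismProperty.of_isPullback (P := Q) hX hf
  · intro hf'
    obtain ⟨h1, h2, h3, h4, h5⟩ := field_setup f g f' g' eX eY h hY
    exact hQ.of_isPullback hX.flip ⟨⟨h2, h1⟩, h3⟩ hf'

/-- in an irreducible Noetherian space a constructible set or its complement has nonempty
interior. -/
theorem interior_nonempty_or_of_isConstructible {S : Scheme.{u}} [IsIntegral S] [IsNoetherian S]
    {E : Set ↥S} (hE : IsConstructible E) :
    (interior E).Nonempty ∨ (interior Eᶜ).Nonempty := by
  have hgen : ∀ E : Set ↥S, IsConstructible E → genericPoint ↥S ∈ E → (interior E).Nonempty := by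
    intro E hE hmem
    have hd : Dense E := by
      have h1 : Dense ({genericPoint ↥S} : Set ↥S) := by
        rw [dense_iff_closure_eq]
        exact (genericPoint_spec ↥S).def
      exact h1.mono (Set.singleton_subset_iff.mpr hmem)
    obtain ⟨U, hUo, ⟨x, hx⟩, hUsub⟩ :=
      (Groth.Agent.Helper1.ConstrL.dense_iff_exists_open_of_isConstructible hE).mp hd
    exact ⟨x, mem_interior.mpr ⟨U, hUsub, hUo, hx⟩⟩
  by_cases hη : genericPoint ↥S ∈ E
  · exact Or.inl (hgen _ hE hη)
  · exact Or.inr (hgen _ hE.compl hη)

/-- a field-stable relation "the morphism has `Q`" whose locus is locally constructible in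
families of finite presentation is a constructible relation on morphisms. -/
theorem isConsMor_of_isLocallyConstructible (Q : MorphismProperty Scheme.{u})
    (hfs : ConsProp.IsFieldStableMor (MorProp Q))
    (hloc : ∀ {X Y S : Scheme.{u}} (f : X ⟶ Y) (g : Y ⟶ S)
      [LocallyOfFinitePresentation g] [QuasiCompact g] [QuasiSeparated g]
      [LocallyOfFinitePresentation (f ≫ g)] [QuasiCompact (f ≫ g)] [QuasiSeparated (f ≫ g)],
      IsLocallyConstructible (ConsProp.locusMor (MorProp Q) f g)) :
    ConsProp.IsConsMor (MorProp Q) := by
  refine ⟨hfs, ?_⟩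
  intro X Y S f g _ _ _ _ _ _
  have : IsLocallyNoetherian Y := LocallyOfFiniteType.isLocallyNoetherian g
  have : IsLocallyNoetherian X := LocallyOfFiniteType.isLocallyNoetherian (f ≫ g)
  exact interior_nonempty_or_of_isConstructible (hloc f g).isConstructible

theorem isConsMor_universallyInjective :
    ConsProp.IsConsMor (MorProp (@UniversallyInjective : MorphismProperty Scheme.{u})) :=
  isConsMor_of_isLocallyConstructible _
    (isFieldStableMor_of_descendsAlong _ inferInstance)
    (fun f g => FibSurj.isLocallyConstructible_setOf_universallyInjective f g)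

theorem isFieldStableMor_qfin : ConsProp.IsFieldStableMor (MorProp qfin.{u}) := by
  intro X X' Y Y' T T' f g f' g' eX eY h _ _ _ _ _ _ _ _ hY hX
  constructor
  · intro hf
    exact MorphismProperty.of_isPullback (P := qfin) hX hf
  · rintro ⟨hf1, hf2, hf3⟩
    obtain ⟨h1, h2, h3, h4, h5⟩ := field_setup f g f' g' eX eY h hY
    exact ⟨locallyOfFiniteType_of_comp f g, h4,
      (Groth.Agent.Helper2.AlgSpBasic.locallyQuasiFinite_descendsAlong_fpqc.{u}).of_isPullback
        hX.flip ⟨⟨h2, h1⟩, h3⟩ hf3⟩

theorem isConsMor_qfin : ConsProp.IsConsMor (MorProp qfin.{u}) := by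
  refine isConsMor_of_isLocallyConstructible _ isFieldStableMor_qfin ?_
  intro X Y S f g _ _ _ _ _ _
  have hlfp : LocallyOfFinitePresentation f :=
    Groth.Agent.Helper2.locallyOfFinitePresentation_of_comp f g inferInstance inferInstance
  have hqc : QuasiCompact f := QuasiCompact.of_comp f g
  have e : ConsProp.locusMor (MorProp qfin.{u}) f g =
      {s : S | LocallyQuasiFinite (FibSurj.fibMap f g s)} := by
    ext s
    constructor
    · intro hs
      exact hs.2.2
    · intro hs
      exact ⟨MorphismProperty.of_isPullback (isPullback_fiberMap f g s) inferInstance,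
        MorphismProperty.of_isPullback (isPullback_fiberMap f g s) inferInstance, hs⟩
  rw [e]
  exact FibSurj.isLocallyConstructible_setOf_locallyQuasiFinite f g

/-- one-point integral schemes: every morphism between them is an fpqc covering. -/
theorem fpqc_of_subsingleton {T T' : Scheme.{u}} (h : T' ⟶ T) [IsIntegral T] [Subsingleton T]
    [IsIntegral T'] [Subsingleton T'] :
    (@Surjective ⊓ @Flat ⊓ @QuasiCompact : MorphismProperty Scheme.{u}) h :=
  ⟨⟨⟨fun t => ⟨Classical.arbitrary T', Subsingleton.elim _ _⟩⟩, inferInstance⟩, inferInstance⟩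

theorem universallyInjective_fiberToSpec_congr {X S : Scheme.{u}} {u u' : X ⟶ S} (h : u' = u)
    (s : S) : UniversallyInjective (u'.fiberToSpecResidueField s) ↔
      UniversallyInjective (u.fiberToSpecResidueField s) := by
  subst h
  rfl

set_option backward.isDefEq.respectTransparency false in
theorem isCons_universallyInjective :
    ConsProp.IsCons (fun (Y T : Scheme.{u}) (g : Y ⟶ T) => UniversallyInjective g) := by
  constructor
  · intro Y Y' T T' g g' e h _ _ _ _ _ _ hsq
    constructor
    · intro hg
      exact MorphismProperty.of_isPullback (P := @UniversallyInjective) hsq hg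
    · intro hg'
      exact MorphismProperty.of_isPullback_of_descendsAlong (P := @UniversallyInjective)
        (Q := (@Surjective ⊓ @Flat ⊓ @QuasiCompact : MorphismProperty Scheme.{u}))
        hsq.flip (fpqc_of_subsingleton h) hg'
  · intro X S u _ _ _ _
    have : IsLocallyNoetherian X := LocallyOfFiniteType.isLocallyNoetherian u
    have h1 : LocallyOfFiniteType (u ≫ 𝟙 S) := by rw [Category.comp_id]; infer_instance
    have h2 : QuasiCompact (u ≫ 𝟙 S) := by rw [Category.comp_id]; infer_instance
    have hloc := (FibSurj.isLocallyConstructible_setOf_universallyInjective u (𝟙 S)).isConstructible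
    have e : {s : S | UniversallyInjective (FibSurj.fibMap u (𝟙 S) s)} =
        ConsProp.locus (fun (Y T : Scheme.{u}) (g : Y ⟶ T) => UniversallyInjective g) u := by
      ext s
      have h3 : FibSurj.fibMap u (𝟙 S) s ≫ pullback.snd (𝟙 S) (S.fromSpecResidueField s) =
          (u ≫ 𝟙 S).fiberToSpecResidueField s := pullback.lift_snd _ _ _
      show UniversallyInjective (FibSurj.fibMap u (𝟙 S) s) ↔
        UniversallyInjective (u.fiberToSpecResidueField s)
      rw [← universallyInjective_fiberToSpec_congr (Category.comp_id u) s, ← h3]
      exact (MorphismProperty.cancel_right_of_respectsIso @UniversallyInjective _ _).symm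
    rw [e] at hloc
    exact interior_nonempty_or_of_isConstructible hloc

end Groth.Agent.Helper7.ConsMor
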